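import Groth.Agent.S0437
import Mathlib

/-!
Nodes LOC1 and LOC2 for `S14900` (reduced fibre theorem over a valuation ring).

* `finite_of_locFin`: finiteness of the integral closure can be checked locally on `Spec A`.
* `exists_locFin_of_noether`: finiteness of the integral closure near a prime over the closed
  fibre, given a good Noether normalization (Zariski's main theorem, and finite presentation of
  flat finite modules over a valuation ring).
* `exists_locFin_of_over_max'`: the same, with the Noether normalization as a hypothesis.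
-/

set_option autoImplicit false
universe u
open TensorProduct

namespace K937.RFT


/-- Away from `f = 0` the integral closure of `A` in `B` is finite. -/
def LocFin (A B : Type*) [CommRing A] [CommRing B] [Algebra A B] (f : A) : Prop :=
  ∃ M : Submodule A (integralClosure A B), M.FG ∧ ∀ x : integralClosure A B, ∃ n : ℕ, f ^ n • x ∈ M

theorem finite_of_locFin {A B : Type*} [CommRing A] [CommRing B] [Algebra A B]
    (h : ∀ q : Ideal A, q.IsPrime → ∃ f ∉ q, LocFin A B f) : Module.Finite A (integralClosure A B) := by
  classical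
  have hspan : Ideal.span {f : A | LocFin A B f} = ⊤ := by
    by_contra hne
    obtain ⟨m, hm, hle⟩ := Ideal.exists_le_maximal _ hne
    obtain ⟨f, hf, hfin⟩ := h m hm.isPrime
    exact hf (hle (Ideal.subset_span hfin))
  obtain ⟨s, hs, hs1⟩ := (Ideal.span_eq_top_iff_finite _).mp hspan
  choose! M hM hM' using fun f (hf : LocFin A B f) => hf
  let N : Submodule A (integralClosure A B) := s.sup M
  have hNfg : N.FG := by
    exact Submodule.fg_finset_sup s M fun f hf => hM f (hs hf)
  refine ⟨?_⟩
  suffices hN : N = ⊤ by rw [← hN]; exact hNfg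
  rw [eq_top_iff]
  rintro x -
  -- the ideal of those `a` with `a • x ∈ N`
  have hx : ∀ f ∈ s, ∃ n : ℕ, f ^ n • x ∈ N := by
    intro f hf
    obtain ⟨n, hn⟩ := hM' f (hs hf) x
    exact ⟨n, (Finset.le_sup (f := M) hf) hn⟩
  choose! n hn using hx
  let k := s.sup n
  have hk : ∀ f ∈ s, f ^ k • x ∈ N := by
    intro f hf
    have h1 : n f ≤ k := Finset.le_sup hf
    obtain ⟨c, hc⟩ := Nat.exists_eq_add_of_le h1
    rw [hc, add_comm, pow_add, mul_smul]
    exact N.smul_mem _ (hn f hf)
  have hpow : Ideal.span ((fun f : A => f ^ k) '' (s : Set A)) = ⊤ :=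
    Ideal.span_pow_eq_top (s : Set A) hs1 k
  have h1 : (1 : A) ∈ Ideal.span ((fun f : A => f ^ k) '' (s : Set A)) := by
    rw [hpow]; exact Submodule.mem_top
  have h2 : Ideal.span ((fun f : A => f ^ k) '' (s : Set A)) ≤
      Submodule.comap (LinearMap.toSpanSingleton A _ x) N := by
    rw [Ideal.span, Submodule.span_le]
    rintro _ ⟨f, hf, rfl⟩
    simpa using hk f hf
  simpa using h2 h1

theorem zmp_of_isIntegral_fibre {P A : Type*} [CommRing P] [CommRing A] [Algebra P A]
    [Algebra.FiniteType P A] (q : Ideal A) [q.IsPrime] (J : Ideal A)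
    (hJ : J ≤ (q.under P).map (algebraMap P A))
    (hint : ((Ideal.Quotient.mk J).comp (algebraMap P A)).IsIntegral) :
    Algebra.ZariskisMainProperty P q := by
  have hint' : Algebra.IsIntegral P (A ⧸ (q.under P).map (algebraMap P A)) := by
    refine ⟨fun y => ?_⟩
    obtain ⟨a, rfl⟩ := Ideal.Quotient.mk_surjective y
    obtain ⟨p, hp, hp0⟩ := hint (Ideal.Quotient.mk J a)
    refine ⟨p, hp, ?_⟩
    have := congrArg (Ideal.Quotient.factor hJ) hp0
    rw [Polynomial.hom_eval₂, ← RingHom.comp_assoc, Ideal.Quotient.factor_comp_mk,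
      Ideal.Quotient.factor_mk, map_zero] at this
    exact this
  have : Module.Finite P (A ⧸ (q.under P).map (algebraMap P A)) := Algebra.IsIntegral.finite
  have : Algebra.WeaklyQuasiFiniteAt P q := inferInstance
  exact Algebra.ZariskisMainProperty.of_finiteType_of_weaklyQuasiFiniteAt q

theorem exists_pow_smul_isIntegral {P A B : Type*} [CommRing P] [CommRing A] [CommRing B]
    [Algebra P A] [Algebra A B] [Algebra P B] [IsScalarTower P A B] {f : A}
    (hf : ∀ a : A, ∃ m, IsIntegral P (f ^ m * a)) (hf0 : IsIntegral P f) {x : B}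
    (hx : IsIntegral A x) : ∃ n, IsIntegral P (f ^ n • x) := by
  classical
  obtain ⟨p, hp, hpx⟩ := hx
  by_cases hdeg : p.natDegree = 0
  · have hp1 : p = 1 := (Polynomial.Monic.natDegree_eq_zero hp).mp hdeg
    refine ⟨0, ?_⟩
    rw [hp1, Polynomial.eval₂_one] at hpx
    have : Subsingleton B := subsingleton_of_zero_eq_one hpx.symm
    rw [Subsingleton.elim (f ^ 0 • x) 0]
    exact isIntegral_zero
  choose m hm using fun i => hf (p.coeff i)
  let k := (Finset.range p.natDegree).sup m
  have hk : ∀ i < p.natDegree, IsIntegral P (f ^ k * p.coeff i) := by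
    intro i hi
    have h1 : m i ≤ k := Finset.le_sup (f := m) (Finset.mem_range.mpr hi)
    obtain ⟨c, hc⟩ := Nat.exists_eq_add_of_le h1
    rw [hc, add_comm, pow_add, mul_assoc]
    exact (hf0.pow c).mul (hm i)
  refine ⟨k, ?_⟩
  let p' := p.scaleRoots (f ^ k)
  have hp' : p'.Monic := (Polynomial.monic_scaleRoots_iff _).mpr hp
  have hcoeff : ∀ i, IsIntegral P (p'.coeff i) := by
    intro i
    rw [Polynomial.coeff_scaleRoots]
    rcases lt_trichotomy i p.natDegree with hi | hi | hi
    · obtain ⟨c, hc⟩ := Nat.exists_eq_add_of_lt hi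
      have h1 : p.natDegree - i = c + 1 := by omega
      rw [h1, pow_succ, ← mul_assoc, mul_comm, ← mul_assoc]
      rw [show f ^ k * p.coeff i * (f ^ k) ^ c = (f ^ k * p.coeff i) * (f ^ k) ^ c from rfl]
      exact (hk i hi).mul ((hf0.pow k).pow c)
    · rw [hi, hp.coeff_natDegree, Nat.sub_self, pow_zero, mul_one]
      exact isIntegral_one
    · rw [Polynomial.coeff_eq_zero_of_natDegree_lt hi, zero_mul]
      exact isIntegral_zero
  have hroot : Polynomial.aeval (f ^ k • x) p' = 0 := by
    rw [Algebra.smul_def]
    exact Polynomial.scaleRoots_aeval_eq_zero hpx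
  nontriviality B
  have : Nontrivial A := RingHom.domain_nontrivial (algebraMap A B)
  refine IsIntegral.of_aeval_monic_of_isIntegral_coeff (p := p'.map (algebraMap A B))
    (hp'.map _) ?_ ?_ ?_
  · rw [hp'.natDegree_map]
    show (p.scaleRoots (f ^ k)).natDegree ≠ 0
    rw [Polynomial.natDegree_scaleRoots]
    exact hdeg
  · rw [Polynomial.eval_map_algebraMap, hroot]
    exact isIntegral_zero
  · intro i
    rw [Polynomial.coeff_map]
    exact (hcoeff i).algebraMap

theorem finite_of_saturated {R : Type u} [CommRing R] [IsDomain R] [ValuationRing R]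
    {P : Type u} [CommRing P] [Algebra R P] [Algebra.FiniteType R P]
    {M N : Type u} [AddCommGroup M] [AddCommGroup N] [Module P M] [Module P N] [Module R N]
    [IsScalarTower R P N] [Module.Finite P N]
    (j : M →ₗ[P] N) (hj : Function.Injective j)
    (hsat : ∀ (r : R), r ≠ 0 → ∀ y : N, r • y ∈ LinearMap.range j → y ∈ LinearMap.range j) :
    Module.Finite P M := by
  have htf : Module.IsTorsionFree R (N ⧸ LinearMap.range j) := by
    refine ⟨fun r hr => ?_⟩
    rw [isSMulRegular_iff_right_eq_zero_of_smul]
    intro y hy
    obtain ⟨y, rfl⟩ := Submodule.Quotient.mk_surjective _ y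
    rw [← Submodule.Quotient.mk_smul, Submodule.Quotient.mk_eq_zero] at hy
    rw [Submodule.Quotient.mk_eq_zero]
    exact hsat r hr.ne_zero y hy
  have hflat : Module.Flat R (N ⧸ LinearMap.range j) := by
    rw [Module.Flat.flat_iff_torsion_eq_bot_of_isBezout,
      ← Submodule.isTorsionFree_iff_torsion_eq_bot]
    exact htf
  have hfp : Module.FinitePresentation P (N ⧸ LinearMap.range j) := Groth.Agent.S0437.result (A := R)
  have hfg : (LinearMap.ker (LinearMap.range j).mkQ).FG :=
    Module.FinitePresentation.fg_ker _ (Submodule.mkQ_surjective _)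
  rw [Submodule.ker_mkQ] at hfg
  have : Module.Finite P (LinearMap.range j) := Module.Finite.iff_fg.mpr hfg
  exact Module.Finite.equiv (LinearEquiv.ofInjective j hj).symm

theorem exists_locFin_aux {R P A B L : Type u} [CommRing R] [IsDomain R] [ValuationRing R]
    [CommRing P] [Algebra R P] [Algebra.FiniteType R P]
    [CommRing A] [IsDomain A] [Algebra R A] [Algebra.FiniteType R A] [Algebra P A]
    [IsScalarTower R P A] (hinj : Function.Injective (algebraMap R A))
    [Field L] [Algebra A L] [IsFractionRing A L] [Algebra P L] [IsScalarTower P A L]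
    [Algebra R L] [IsScalarTower R A L]
    [CommRing B] [Algebra A B]
    [IsLocalization (Algebra.algebraMapSubmonoid A (nonZeroDivisors R)) B]
    (hfin : Module.Finite P (integralClosure P L))
    (q : Ideal A) [q.IsPrime] (hq : (IsLocalRing.maximalIdeal R).map (algebraMap R A) ≤ q)
    (hint : ((Ideal.Quotient.mk ((IsLocalRing.maximalIdeal R).map (algebraMap R A))).comp
      (algebraMap P A)).IsIntegral) :
    ∃ f ∉ q, LocFin A B f := by
  classical
  have : Algebra.FiniteType P A := Algebra.FiniteType.of_restrictScalars_finiteType R P A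
  have : IsScalarTower R P L := IsScalarTower.of_algebraMap_eq fun r => by
    rw [IsScalarTower.algebraMap_apply P A L, ← IsScalarTower.algebraMap_apply R P A,
      ← IsScalarTower.algebraMap_apply R A L]
  have hJ : (IsLocalRing.maximalIdeal R).map (algebraMap R A) ≤
      (q.under P).map (algebraMap P A) := by
    rw [Ideal.map_le_iff_le_comap]
    intro r hr
    have h1 : algebraMap R A r ∈ q := hq (Ideal.mem_map_of_mem _ hr)
    rw [Ideal.mem_comap, IsScalarTower.algebraMap_apply R P A]
    refine Ideal.mem_map_of_mem _ ?_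
    rw [Ideal.under, Ideal.mem_comap, ← IsScalarTower.algebraMap_apply R P A]
    exact h1
  have hz := zmp_of_isIntegral_fibre q _ hJ hint
  rw [Algebra.zariskisMainProperty_iff] at hz
  obtain ⟨f, hfq, hf0, hf⟩ := hz
  refine ⟨f, hfq, ?_⟩
  let : Algebra P B := ((algebraMap A B).comp (algebraMap P A)).toAlgebra
  have : IsScalarTower P A B := IsScalarTower.of_algebraMap_eq' rfl
  have hunit : ∀ y : Algebra.algebraMapSubmonoid A (nonZeroDivisors R),
      IsUnit (algebraMap A L y) := by
    rintro ⟨_, r, hr, rfl⟩
    rw [isUnit_iff_ne_zero]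
    intro h0
    have h1 : algebraMap R A r = 0 :=
      (map_eq_zero_iff _ (IsFractionRing.injective A L)).mp h0
    have h2 : r = 0 := (map_eq_zero_iff _ hinj).mp h1
    exact nonZeroDivisors.ne_zero hr h2
  let φ : B →+* L := IsLocalization.lift hunit
  have hφ : ∀ a : A, φ (algebraMap A B a) = algebraMap A L a :=
    fun a => IsLocalization.lift_eq hunit a
  have hφinj : Function.Injective φ := by
    refine (IsLocalization.lift_injective_iff hunit).mpr fun a b => ?_
    constructor
    · intro h
      have := congrArg φ h
      rwa [hφ, hφ] at this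
    · intro h
      rw [IsFractionRing.injective A L h]
  let : Algebra B L := φ.toAlgebra
  have hBL : Function.Injective (algebraMap B L) := hφinj
  have : IsScalarTower A B L := IsScalarTower.of_algebraMap_eq fun a => (hφ a).symm
  have : IsScalarTower P B L := IsScalarTower.of_algebraMap_eq fun p => by
    rw [IsScalarTower.algebraMap_apply P A L, IsScalarTower.algebraMap_apply P A B,
      ← IsScalarTower.algebraMap_apply A B L]
  let j : integralClosure P B →ₐ[P] integralClosure P L :=
    (IsScalarTower.toAlgHom P B L).mapIntegralClosure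
  have hj : ∀ c : integralClosure P B, (j c : L) = algebraMap B L c := fun c => rfl
  have hjinj : Function.Injective j := by
    intro c c' h
    have := congrArg (Subtype.val) h
    rw [hj, hj] at this
    exact Subtype.ext (hBL this)
  have hCfin : Module.Finite P (integralClosure P B) := by
    refine finite_of_saturated (R := R) j.toLinearMap hjinj ?_
    rintro r hr y ⟨c, hc⟩
    have hu : IsUnit (algebraMap A B (algebraMap R A r)) :=
      IsLocalization.map_units B (⟨algebraMap R A r, r, mem_nonZeroDivisors_of_ne_zero hr, rfl⟩ :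
        Algebra.algebraMapSubmonoid A (nonZeroDivisors R))
    obtain ⟨u, hu⟩ := hu
    let b : B := (↑u⁻¹ : B) * (c : B)
    have hb : algebraMap B L b = (y : L) := by
      have h1 : algebraMap B L (u : B) * algebraMap B L b = algebraMap B L (c : B) := by
        rw [← map_mul, Units.mul_inv_cancel_left]
      have h2 : algebraMap B L (c : B) = algebraMap R L r * (y : L) := by
        have := congrArg (Subtype.val) hc
        rw [← hj]
        refine this.trans ?_
        rw [← Algebra.smul_def]
        rfl
      have h3 : algebraMap B L (u : B) = algebraMap R L r := by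
        rw [hu, ← IsScalarTower.algebraMap_apply A B L, ← IsScalarTower.algebraMap_apply R A L]
      have h4 : algebraMap R L r ≠ 0 := by
        rw [← h3]
        exact (u.isUnit.map (algebraMap B L)).ne_zero
      rw [h3, h2] at h1
      exact mul_left_cancel₀ h4 h1
    have hbint : IsIntegral P b := by
      rw [← isIntegral_algebraMap_iff hBL, hb]
      exact y.2
    refine ⟨⟨b, hbint⟩, Subtype.ext ?_⟩
    exact hb
  obtain ⟨s, hs⟩ := hCfin.fg_top
  let i : integralClosure P B → integralClosure A B := fun c => ⟨c.1, c.2.tower_top⟩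
  let M : Submodule A (integralClosure A B) := Submodule.span A (i '' (s : Set _))
  have hiM : ∀ c, i c ∈ M := by
    intro c
    have hc : c ∈ Submodule.span P (s : Set (integralClosure P B)) := by
      rw [hs]; exact Submodule.mem_top
    induction hc using Submodule.span_induction with
    | mem c hc => exact Submodule.subset_span ⟨c, hc, rfl⟩
    | zero => exact M.zero_mem
    | add c c' _ _ h h' => exact M.add_mem h h'
    | smul p c _ h =>
      have : i (p • c) = algebraMap P A p • i c := by
        refine Subtype.ext ?_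
        show p • (c : B) = algebraMap P A p • (c : B)
        rw [algebraMap_smul]
      rw [this]
      exact M.smul_mem _ h
  refine ⟨M, ?_, ?_⟩
  · exact Submodule.fg_span ((Finset.finite_toSet s).image i)
  · intro y
    obtain ⟨n, hn⟩ := exists_pow_smul_isIntegral (P := P) (B := B) hf hf0 y.2
    refine ⟨n, ?_⟩
    have := hiM ⟨f ^ n • (y : B), hn⟩
    exact this

attribute [local instance] MvPolynomial.algebraMvPolynomial in
theorem exists_clear_denominators {R K : Type*} [CommRing R] [Field K] [Algebra R K]
    [IsFractionRing R K] {σ : Type*} (r : MvPolynomial σ K) :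
    ∃ c ∈ nonZeroDivisors R, ∃ r' : MvPolynomial σ R,
      MvPolynomial.map (algebraMap R K) r' = MvPolynomial.C (algebraMap R K c) * r := by
  obtain ⟨⟨r', ⟨_, c, hc, rfl⟩⟩, h⟩ :=
    IsLocalization.surj ((nonZeroDivisors R).map (MvPolynomial.C (σ := σ))) r
  refine ⟨c, hc, r', ?_⟩
  have h' : r * MvPolynomial.map (algebraMap R K) (MvPolynomial.C c) =
    MvPolynomial.map (algebraMap R K) r' := h
  rw [MvPolynomial.map_C, mul_comm] at h'
  exact h'.symm

/-- The field generated over `K = Frac R` by algebraically independent elements is the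
fraction field of the polynomial ring over `R`. -/
theorem exists_div_eq {R K L : Type*} [CommRing R] [Field K] [Algebra R K]
    [IsFractionRing R K] [Field L] [Algebra K L] [Algebra R L] [IsScalarTower R K L]
    {σ : Type*} (x : σ → L) (z : L) (hz : z ∈ IntermediateField.adjoin K (Set.range x)) :
    ∃ a b : MvPolynomial σ R, z = MvPolynomial.aeval x a / MvPolynomial.aeval x b := by
  obtain ⟨r, s, rfl⟩ := (IntermediateField.mem_adjoin_range_iff K x z).mp hz
  obtain ⟨c, hc, r', hr'⟩ := exists_clear_denominators (R := R) r
  obtain ⟨e, he, s', hs'⟩ := exists_clear_denominators (R := R) s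
  have hK : ∀ c ∈ nonZeroDivisors R, algebraMap R K c ≠ 0 := fun c hc =>
    IsUnit.ne_zero (IsLocalization.map_units K (⟨c, hc⟩ : nonZeroDivisors R))
  have hL : ∀ c ∈ nonZeroDivisors R, algebraMap R L c ≠ 0 := fun c hc => by
    rw [IsScalarTower.algebraMap_apply R K L]
    exact (map_ne_zero _).mpr (hK c hc)
  have h1 : MvPolynomial.aeval x r' = algebraMap R L c * MvPolynomial.aeval x r := by
    rw [← MvPolynomial.aeval_map_algebraMap K x r', hr', map_mul, MvPolynomial.aeval_C,
      ← IsScalarTower.algebraMap_apply R K L]
  have h2 : MvPolynomial.aeval x s' = algebraMap R L e * MvPolynomial.aeval x s := by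
    rw [← MvPolynomial.aeval_map_algebraMap K x s', hs', map_mul, MvPolynomial.aeval_C,
      ← IsScalarTower.algebraMap_apply R K L]
  refine ⟨MvPolynomial.C e * r', MvPolynomial.C c * s', ?_⟩
  rw [map_mul, map_mul, MvPolynomial.aeval_C, MvPolynomial.aeval_C, h1, h2]
  have hc' := hL c hc
  have he' := hL e he
  by_cases hs : MvPolynomial.aeval x s = 0
  · simp [hs]
  · field_simp

theorem exists_locFin_of_noether {R : Type u} [CommRing R] [IsDomain R] [ValuationRing R]
    (hF : ∀ (d : ℕ) (E : Type u) [Field E] [Algebra (MvPolynomial (Fin d) R) E]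
      [IsFractionRing (MvPolynomial (Fin d) R) E]
      (L : Type u) [Field L] [Algebra E L] [FiniteDimensional E L] [Algebra.IsSeparable E L]
      [Algebra (MvPolynomial (Fin d) R) L] [IsScalarTower (MvPolynomial (Fin d) R) E L],
      Module.Finite (MvPolynomial (Fin d) R) (integralClosure (MvPolynomial (Fin d) R) L))
    (K : Type u) [Field K] [Algebra R K] [IsFractionRing R K]
    {A : Type u} [CommRing A] [IsDomain A] [Algebra R A] [Algebra.FiniteType R A]
    (hinj : Function.Injective (algebraMap R A))
    (L : Type u) [Field L] [Algebra A L] [IsFractionRing A L] [Algebra K L] [Algebra R L]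
    [IsScalarTower R K L] [IsScalarTower R A L]
    (B : Type u) [CommRing B] [Algebra A B]
    [IsLocalization (Algebra.algebraMapSubmonoid A (nonZeroDivisors R)) B]
    (q : Ideal A) [q.IsPrime] (hq : (IsLocalRing.maximalIdeal R).map (algebraMap R A) ≤ q)
    {d : ℕ} (x : Fin d → A) (hx : AlgebraicIndependent R x)
    (hint : ((Ideal.Quotient.mk ((IsLocalRing.maximalIdeal R).map (algebraMap R A))).comp
      (MvPolynomial.aeval x : MvPolynomial (Fin d) R →ₐ[R] A).toRingHom).IsIntegral)
    (hsep : Algebra.IsSeparable
      (IntermediateField.adjoin K (Set.range fun i => algebraMap A L (x i))) L) :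
    ∃ f ∉ q, LocFin A B f := by
  classical
  let : Algebra (MvPolynomial (Fin d) R) A :=
    (MvPolynomial.aeval x : MvPolynomial (Fin d) R →ₐ[R] A).toRingHom.toAlgebra
  have : IsScalarTower R (MvPolynomial (Fin d) R) A := IsScalarTower.of_algebraMap_eq fun r =>
    ((MvPolynomial.aeval x : MvPolynomial (Fin d) R →ₐ[R] A).commutes r).symm
  let x' : Fin d → L := fun i => algebraMap A L (x i)
  let E := IntermediateField.adjoin K (Set.range x')
  let : Algebra (MvPolynomial (Fin d) R) L :=
    ((algebraMap A L).comp (algebraMap (MvPolynomial (Fin d) R) A)).toAlgebra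
  have : IsScalarTower (MvPolynomial (Fin d) R) A L := IsScalarTower.of_algebraMap_eq' rfl
  have hPL : ∀ p : MvPolynomial (Fin d) R, algebraMap (MvPolynomial (Fin d) R) L p =
      MvPolynomial.aeval x' p := by
    intro p
    show algebraMap A L (MvPolynomial.aeval x p) = _
    exact MvPolynomial.comp_aeval_apply _ (IsScalarTower.toAlgHom R A L) p
  let xE : Fin d → E := fun i => ⟨x' i, IntermediateField.subset_adjoin K _ ⟨i, rfl⟩⟩
  let : Algebra (MvPolynomial (Fin d) R) E :=
    (MvPolynomial.aeval xE : MvPolynomial (Fin d) R →ₐ[R] E).toRingHom.toAlgebra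
  have : IsScalarTower R E L := IsScalarTower.of_algebraMap_eq fun r => by
    rw [IsScalarTower.algebraMap_apply R K L, IsScalarTower.algebraMap_apply R K E,
      ← IsScalarTower.algebraMap_apply K E L]
  have hEL : ∀ p : MvPolynomial (Fin d) R,
      algebraMap E L (algebraMap (MvPolynomial (Fin d) R) E p) =
        algebraMap (MvPolynomial (Fin d) R) L p := by
    intro p
    rw [hPL]
    exact MvPolynomial.comp_aeval_apply _ (IsScalarTower.toAlgHom R E L) p
  have : IsScalarTower (MvPolynomial (Fin d) R) E L :=
    IsScalarTower.of_algebraMap_eq fun p => (hEL p).symm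
  have hinjPE : Function.Injective (algebraMap (MvPolynomial (Fin d) R) E) := by
    intro p p' h
    have h1 := congrArg (algebraMap E L) h
    rw [hEL, hEL, IsScalarTower.algebraMap_apply (MvPolynomial (Fin d) R) A L,
      IsScalarTower.algebraMap_apply (MvPolynomial (Fin d) R) A L] at h1
    exact hx (IsFractionRing.injective A L h1)
  have : FaithfulSMul (MvPolynomial (Fin d) R) E :=
    (faithfulSMul_iff_algebraMap_injective _ _).mpr hinjPE
  have : IsFractionRing (MvPolynomial (Fin d) R) E := IsFractionRing.of_field _ _ fun z => by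
    obtain ⟨a, b, hab⟩ := exists_div_eq (R := R) (K := K) x' (z : L) z.2
    refine ⟨a, b, Subtype.ext ?_⟩
    rw [hab, ← hPL, ← hPL, ← hEL, ← hEL]
    exact (map_div₀ (algebraMap E L) _ _).symm
  have : Algebra.EssFiniteType A L := Algebra.EssFiniteType.of_isLocalization L (nonZeroDivisors A)
  have : Algebra.EssFiniteType R L := Algebra.EssFiniteType.comp R A L
  have : Algebra.EssFiniteType E L := Algebra.EssFiniteType.of_comp R E L
  have : Algebra.IsSeparable E L := hsep
  have : FiniteDimensional E L := Algebra.finite_of_essFiniteType_of_isAlgebraic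
  exact exists_locFin_aux (R := R) (P := MvPolynomial (Fin d) R) (L := L) hinj (hF d E L) q hq hint

theorem exists_locFin_of_over_max' {R : Type u} [CommRing R] [IsDomain R] [ValuationRing R]
    (hF : ∀ (d : ℕ) (E : Type u) [Field E] [Algebra (MvPolynomial (Fin d) R) E]
      [IsFractionRing (MvPolynomial (Fin d) R) E]
      (L : Type u) [Field L] [Algebra E L] [FiniteDimensional E L] [Algebra.IsSeparable E L]
      [Algebra (MvPolynomial (Fin d) R) L] [IsScalarTower (MvPolynomial (Fin d) R) E L],
      Module.Finite (MvPolynomial (Fin d) R) (integralClosure (MvPolynomial (Fin d) R) L))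
    (K : Type u) [Field K] [Algebra R K] [IsFractionRing R K]
    {A : Type u} [CommRing A] [IsDomain A] [Algebra R A] [Algebra.FiniteType R A]
    (hinj : Function.Injective (algebraMap R A))
    (L : Type u) [Field L] [Algebra A L] [IsFractionRing A L] [Algebra K L] [Algebra R L]
    [IsScalarTower R K L] [IsScalarTower R A L]
    (hN : ∃ (d : ℕ) (x : Fin d → A), AlgebraicIndependent R x ∧
      ((Ideal.Quotient.mk ((IsLocalRing.maximalIdeal R).map (algebraMap R A))).comp
        (MvPolynomial.aeval x : MvPolynomial (Fin d) R →ₐ[R] A).toRingHom).IsIntegral ∧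
      Algebra.IsSeparable
        (IntermediateField.adjoin K (Set.range fun i => algebraMap A L (x i))) L)
    (B : Type u) [CommRing B] [Algebra A B]
    [IsLocalization (Algebra.algebraMapSubmonoid A (nonZeroDivisors R)) B]
    (q : Ideal A) [q.IsPrime] (hq : (IsLocalRing.maximalIdeal R).map (algebraMap R A) ≤ q) :
    ∃ f ∉ q, LocFin A B f := by
  obtain ⟨d, x, hx, hint, hsep⟩ := hN
  exact exists_locFin_of_noether hF K hinj L B q hq x hx hint hsep

end K937.RFT
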